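import Groth.Agent.Deform.WeilGeomInt.Regular
import Groth.Agent.GrpSchLib.CoincidenceFP

/-!
# Weil restriction of closed subschemes along geometrically integral morphisms (VI_B 6.10)
-/

set_option autoImplicit false
set_option linter.style.haveILetI false
set_option backward.isDefEq.respectTransparency.types false

universe u

open CategoryTheory CategoryTheory.Limits AlgebraicGeometry
open scoped TensorProduct
attribute [local instance] Algebra.TensorProduct.rightAlgebra

namespace Groth.Agent.Deform.WeilGeomInt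

open GrpSchLib

section admissible

variable {A : Type u} [CommRing A] {P : Scheme.{u}} (p : P ⟶ Spec (CommRingCat.of A)) (U₀ : P.Opens)

/-- A chart over a basic open with a function supported in `U₀` which is nonzero on every fibre. -/
def Admissible (V : P.affineOpens) : Prop :=
  ∃ (g : A) (h : Γ(P, V.1)), V.1 ≤ p ⁻¹ᵁ PrimeSpectrum.basicOpen g ∧ P.basicOpen h ≤ U₀ ∧
    ∀ x ∈ (PrimeSpectrum.basicOpen g : (Spec (CommRingCat.of A)).Opens), ∃ u ∈ P.basicOpen h, p u = x

theorem admissible_self (hU₀ : IsAffineOpen U₀) (hsurj : ∀ x, ∃ u ∈ U₀, p u = x) :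
    Admissible p U₀ ⟨U₀, hU₀⟩ :=
  ⟨1, 1, by rw [PrimeSpectrum.basicOpen_one]; exact le_top, P.basicOpen_le _, fun x _ => by
    obtain ⟨u, hu, rfl⟩ := hsurj x
    exact ⟨u, by rwa [Scheme.basicOpen_of_isUnit _ isUnit_one], rfl⟩⟩

variable [Flat p] [LocallyOfFinitePresentation p] [GeometricallyIntegral p]

theorem exists_admissible (hsurj : ∀ x, ∃ u ∈ U₀, p u = x) (y : P) :
    ∃ V : P.affineOpens, Admissible p U₀ V ∧ y ∈ V.1 := by
  obtain ⟨V₁, hV₁, hyV₁, -⟩ := exists_isAffineOpen_mem_and_subset (show y ∈ (⊤ : P.Opens) from trivial)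
  have hopen : IsOpenMap p := p.isOpenMap
  obtain ⟨u₀, hu₀, hpu₀⟩ := hsurj (p y)
  have hirr := p.isIrreducible_preimage hopen (isIrreducible_singleton (x := p y))
  obtain ⟨w, hwy, hwV, hwU⟩ := hirr.2 (V₁ : Set P) (U₀ : Set P) V₁.2 U₀.2 ⟨y, rfl, hyV₁⟩ ⟨u₀, hpu₀, hu₀⟩
  obtain ⟨h, hh, hwh⟩ := hV₁.exists_basicOpen_le (V := U₀) ⟨w, hwU⟩ hwV
  obtain ⟨_, ⟨_, ⟨g, rfl⟩, rfl⟩, hxg, hgsub⟩ := PrimeSpectrum.isBasis_basic_opens.exists_subset_of_mem_open
    (show p y ∈ p '' (P.basicOpen h : Set P) from ⟨w, hwh, hwy⟩) (hopen _ (P.basicOpen h).2)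
  let g' : Γ(Spec (CommRingCat.of A), ⊤) := (Scheme.ΓSpecIso (CommRingCat.of A)).inv g
  have hg' : (Spec (CommRingCat.of A)).basicOpen g' = PrimeSpectrum.basicOpen g := basicOpen_eq_of_affine g
  let V := V₁ ⊓ p ⁻¹ᵁ PrimeSpectrum.basicOpen g
  have hV : IsAffineOpen V := by
    have h1 := hV₁.basicOpen (p.appLE ⊤ V₁ le_top g')
    rwa [Scheme.basicOpen_appLE, hg'] at h1
  refine ⟨⟨V, hV⟩, ⟨g, P.presheaf.map (homOfLE (inf_le_left : V ≤ V₁)).op h, inf_le_right, ?_, fun x hx => ?_⟩,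
    hyV₁, hxg⟩
  · rw [Scheme.basicOpen_res]
    exact inf_le_right.trans hh
  · obtain ⟨u, hu, rfl⟩ := hgsub hx
    exact ⟨u, by rw [Scheme.basicOpen_res]; exact ⟨⟨P.basicOpen_le h hu, hx⟩, hu⟩, rfl⟩

/-- On an admissible chart the distinguished function is regular after any base change. -/
theorem eq_zero_of_smul_admissible {B : Type u} [CommRing B] [Algebra A B]
    (v : Spec (CommRingCat.of B) ⟶ P) [IsOpenImmersion v]
    (hv : v ≫ p = Spec.map (CommRingCat.ofHom (algebraMap A B))) (g : A) (t : B)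
    (hle : ∀ b, p (v b) ∈ (PrimeSpectrum.basicOpen g : (Spec (CommRingCat.of A)).Opens))
    (hsurj : ∀ x ∈ (PrimeSpectrum.basicOpen g : (Spec (CommRingCat.of A)).Opens),
      ∃ b : PrimeSpectrum B, t ∉ b.asIdeal ∧ p (v b) = x)
    (C : Type u) [AddCommGroup C] [Module A C] (w : B ⊗[A] C) (hw : t • w = 0) : w = 0 := by
  let A' := Localization.Away g
  let jA : Spec (CommRingCat.of A') ⟶ Spec (CommRingCat.of A) := Spec.map (CommRingCat.ofHom (algebraMap A A'))
  haveI : IsOpenImmersion jA := IsOpenImmersion.of_isLocalization g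
  have hjA : Set.range jA = (PrimeSpectrum.basicOpen g : Set (PrimeSpectrum A)) :=
    PrimeSpectrum.localization_away_comap_range A' g
  let q := IsOpenImmersion.lift jA (v ≫ p) (by
    rintro _ ⟨b, rfl⟩; rw [hjA]; exact hle b)
  obtain ⟨ψ, hψ⟩ := Spec.map_surjective q
  letI : Algebra A' B := ψ.hom.toAlgebra
  haveI : IsScalarTower A A' B := .of_algebraMap_eq' (by
    have h1 : Spec.map (CommRingCat.ofHom (algebraMap A B)) = Spec.map (CommRingCat.ofHom (algebraMap A A') ≫ ψ) := by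
      rw [Spec.map_comp, hψ, IsOpenImmersion.lift_fac, hv]
    exact congrArg CommRingCat.Hom.hom (Spec.map_inj.mp h1))
  have hq : Spec.map (CommRingCat.ofHom (algebraMap A' B)) = q := hψ
  let v' : Spec (CommRingCat.of B) ⟶ pullback p jA := pullback.lift v q (IsOpenImmersion.lift_fac _ _ _).symm
  haveI : IsOpenImmersion (v' ≫ pullback.fst p jA) := by rw [pullback.lift_fst]; infer_instance
  haveI : IsOpenImmersion v' := IsOpenImmersion.of_comp v' (pullback.fst p jA)
  have hqv : v' ≫ pullback.snd p jA = q := pullback.lift_snd _ _ _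
  haveI : Surjective (v' ≫ pullback.snd p jA) := ⟨fun x => by
    obtain ⟨b, -, hb⟩ := hsurj (jA x) (hjA.le ⟨x, rfl⟩)
    refine ⟨b, jA.isOpenEmbedding.injective ?_⟩
    rw [hqv, ← Scheme.Hom.comp_apply, IsOpenImmersion.lift_fac, Scheme.Hom.comp_apply, hb]⟩
  haveI hgq : GeometricallyIntegral (Spec.map (CommRingCat.ofHom (algebraMap A' B))) := by
    rw [hq, ← hqv]; exact geometricallyIntegral_comp v' (pullback.snd p jA)
  haveI : Flat (Spec.map (CommRingCat.ofHom (algebraMap A' B))) := by rw [hq, ← hqv]; infer_instance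
  haveI : LocallyOfFinitePresentation (Spec.map (CommRingCat.ofHom (algebraMap A' B))) := by
    rw [hq, ← hqv]; infer_instance
  haveI : Module.Projective A' B := projective_of_geomIntegral hgq
  exact (TensorProduct.AlgebraTensorModule.cancelBaseChange A A' B B C).symm.injective
    ((eq_zero_of_smul (A := A') hgq t (fun r hr => by
      obtain ⟨b, htb, hb⟩ := hsurj (jA ⟨r, hr⟩) (hjA.le ⟨_, rfl⟩)
      refine ⟨b.asIdeal, b.isPrime, ?_, htb⟩
      have h1 : jA (q b) = jA ⟨r, hr⟩ := by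
        rw [← Scheme.Hom.comp_apply, IsOpenImmersion.lift_fac, Scheme.Hom.comp_apply, hb]
      have h2 := jA.isOpenEmbedding.injective h1
      rw [← hq] at h2
      exact congrArg PrimeSpectrum.asIdeal h2) (A' ⊗[A] C)
      ((TensorProduct.AlgebraTensorModule.cancelBaseChange A A' B B C).symm w)
      (by rw [← map_smul, hw, map_zero])).trans (map_zero _).symm)

end admissible

variable {X S Y : Scheme.{u}} (f : X ⟶ S) (i : Y ⟶ X) [IsClosedImmersion i]
  [Flat f] [LocallyOfFinitePresentation f] [GeometricallyIntegral f]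

/-- The universal ideal over a base admitting a surjective affine chart. -/
theorem exists_hasIdeal_of_chart {A : Type u} [CommRing A] (a : Spec (CommRingCat.of A) ⟶ S)
    (U₀ : (pullback a f).Opens) (hU₀ : IsAffineOpen U₀) (hsurj : ∀ x, ∃ u ∈ U₀, pullback.fst a f u = x) :
    ∃ I : Ideal A, HasIdeal f i a I ∧ (LocallyOfFinitePresentation i → I.FG) := by
  let p := pullback.fst a f
  let ι := {V : (pullback a f).affineOpens // Admissible p U₀ V}
  let B : ι → Type u := fun V => Γ(pullback a f, V.1.1)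
  let φ : ∀ V : ι, A →+* B V := fun V => (Spec.preimage (V.1.2.fromSpec ≫ p)).hom
  letI : ∀ V : ι, Algebra A (B V) := fun V => (φ V).toAlgebra
  let v : ∀ V : ι, Spec (CommRingCat.of (B V)) ⟶ pullback a f := fun V => V.1.2.fromSpec
  haveI : ∀ V, IsOpenImmersion (v V) := fun V => inferInstanceAs (IsOpenImmersion V.1.2.fromSpec)
  have hv : ∀ V, v V ≫ p = Spec.map (CommRingCat.ofHom (algebraMap A (B V))) := fun V => (Spec.map_preimage _).symm
  have hcov : ∀ x, ∃ (V : ι) (y : _), v V y = x := fun x => by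
    obtain ⟨V, hVad, hxV⟩ := exists_admissible p U₀ hsurj x
    exact ⟨⟨V, hVad⟩, V.2.range_fromSpec.ge hxV⟩
  choose J hJ using fun V => factors_closed_iff i (v V ≫ pullback.snd a f)
  have hgood : ∀ (C : Type u) [CommRing C] [Algebra A C],
      Good f i (Spec.map (CommRingCat.ofHom (algebraMap A C)) ≫ a) ↔ ∀ V, ∀ x ∈ J V, (1 : C) ⊗ₜ[A] x = 0 :=
    fun C _ _ => good_iff_charts a B v hv hcov J hJ C
  let V₀ : ι := ⟨⟨U₀, hU₀⟩, admissible_self p U₀ hU₀ hsurj⟩
  haveI : Module.Projective A (B V₀) := by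
    haveI : Surjective (v V₀ ≫ p) := ⟨fun x => by
      obtain ⟨u, hu, rfl⟩ := hsurj x
      obtain ⟨b, hb⟩ := hU₀.range_fromSpec.ge hu
      exact ⟨b, (Scheme.Hom.comp_apply _ _ _).trans (congrArg p hb)⟩⟩
    haveI hgq : GeometricallyIntegral (Spec.map (CommRingCat.ofHom (algebraMap A (B V₀)))) := by
      rw [← hv V₀]; exact geometricallyIntegral_comp (v V₀) p
    haveI : Flat (Spec.map (CommRingCat.ofHom (algebraMap A (B V₀)))) := by rw [← hv V₀]; infer_instance
    haveI : LocallyOfFinitePresentation (Spec.map (CommRingCat.ofHom (algebraMap A (B V₀)))) := by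
      rw [← hv V₀]; infer_instance
    exact projective_of_geomIntegral hgq
  obtain ⟨I, hI⟩ := exists_contentIdeal_of_projective (A := A) (M := B V₀) (J V₀ : Set (B V₀))
  have key : ∀ (C : Type u) [CommRing C] [Algebra A C],
      (∀ x ∈ J V₀, (1 : C) ⊗ₜ[A] x = 0) → ∀ V, ∀ x ∈ J V, (1 : C) ⊗ₜ[A] x = 0 := by
    intro C _ _ h₀ V x hx
    obtain ⟨g, h, hle, hhU, hh⟩ := V.2
    let t : C ⊗[A] B V := 1 ⊗ₜ h
    let D := Localization.Away t
    let σ : C ⊗[A] B V →ₐ[A] D := IsScalarTower.toAlgHom A _ D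
    let σB : B V →ₐ[A] D := σ.comp (Algebra.TensorProduct.includeRight (R := A) (A := C) (B := B V))
    let σC : C →ₐ[A] D := σ.comp (IsScalarTower.toAlgHom A C (C ⊗[A] B V))
    let m := Spec.map (CommRingCat.ofHom σB.toRingHom) ≫ v V
    have hrange : Set.range m ⊆ Set.range (v V₀) := by
      rintro _ ⟨z, rfl⟩
      refine hU₀.range_fromSpec.ge (hhU ?_)
      show Spec.map (CommRingCat.ofHom σB.toRingHom) z ∈ V.1.2.fromSpec ⁻¹ᵁ (pullback a f).basicOpen h
      rw [V.1.2.fromSpec_preimage_basicOpen]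
      exact fun hz => (z : PrimeSpectrum D).isPrime.ne_top
        (Ideal.eq_top_of_isUnit_mem _ hz (IsLocalization.Away.algebraMap_isUnit t))
    obtain ⟨τ, hτ⟩ := Spec.map_surjective (IsOpenImmersion.lift (v V₀) m hrange)
    have hτA : CommRingCat.ofHom (algebraMap A (B V₀)) ≫ τ = CommRingCat.ofHom (algebraMap A D) := by
      apply Spec.map_injective
      rw [Spec.map_comp, hτ, ← hv V₀, IsOpenImmersion.lift_fac_assoc, Category.assoc, hv V, ← Spec.map_comp,
        ← CommRingCat.ofHom_comp]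
      congr 2
      exact RingHom.ext fun r => σB.commutes r
    let τA : B V₀ →ₐ[A] D := { τ.hom with commutes' := fun r => congrArg (fun m => m.hom r) hτA }
    have hJ₀ : J V₀ ≤ RingHom.ker τ.hom := fun y hy => by
      have h1 := congrArg (Algebra.TensorProduct.lift σC τA (fun _ _ => Commute.all _ _)) (h₀ y hy)
      rw [Algebra.TensorProduct.lift_tmul, map_one, one_mul, map_zero] at h1
      exact h1
    obtain ⟨l, hl⟩ := (hJ V₀ _ τ).mpr hJ₀
    have hσx : σB x = 0 := (hJ V _ (CommRingCat.ofHom σB.toRingHom)).mp ⟨l, by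
      rw [hl, hτ, IsOpenImmersion.lift_fac_assoc, Category.assoc]⟩ hx
    obtain ⟨⟨_, n, rfl⟩, hn⟩ := (IsLocalization.map_eq_zero_iff (Submonoid.powers t) D _).mp hσx
    have hn' : (1 : C) ⊗ₜ[A] (h ^ n * x) = 0 := by
      simpa [t, Algebra.TensorProduct.tmul_pow, Algebra.TensorProduct.tmul_mul_tmul] using hn
    clear hn hσx hl
    induction n with
    | zero => simpa using hn'
    | succ n ih =>
      apply ih
      apply (TensorProduct.comm A C (B V)).injective
      rw [map_zero, TensorProduct.comm_tmul]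
      refine eq_zero_of_smul_admissible p (v V) (hv V) g h ?_ ?_ C _ ?_
      · intro b
        exact hle (V.1.2.range_fromSpec.le ⟨b, rfl⟩)
      · intro y hy
        obtain ⟨u, hu, rfl⟩ := hh y hy
        obtain ⟨b, rfl⟩ := V.1.2.range_fromSpec.ge ((pullback a f).basicOpen_le h hu)
        refine ⟨b, ?_, rfl⟩
        have : b ∈ V.1.2.fromSpec ⁻¹ᵁ (pullback a f).basicOpen h := hu
        rw [V.1.2.fromSpec_preimage_basicOpen] at this
        exact this
      · rw [TensorProduct.smul_tmul', smul_eq_mul, ← mul_assoc, ← pow_succ']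
        have h2 := congrArg (TensorProduct.comm A C (B V)) hn'
        rwa [map_zero, TensorProduct.comm_tmul] at h2
  have hI' : ∀ (C : Type u) [CommRing C] [Algebra A C],
      Good f i (Spec.map (CommRingCat.ofHom (algebraMap A C)) ≫ a) ↔ I ≤ RingHom.ker (algebraMap A C) :=
    fun C _ _ => (hgood C).trans (Iff.trans ⟨fun h => h V₀, key C⟩ (hI C))
  refine ⟨I, fun C _ ψ => ?_, fun hfp => ?_⟩
  · letI := ψ.toAlgebra
    exact hI' C
  · obtain ⟨s, hs⟩ := fg_of_factors i _ (J V₀) (hJ V₀)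
    refine contentIdeal_fg s.finite_toSet fun C _ _ => ?_
    rw [← hI C]
    refine ⟨fun h y hy => ?_, fun h y hy => h y (hs ▸ Submodule.subset_span hy)⟩
    have hle : J V₀ ≤ RingHom.ker (Algebra.TensorProduct.includeRight (R := A) (A := C) (B := B V₀)).toRingHom := by
      rw [← hs, Submodule.span_le]
      exact h
    exact hle hy

/-- Every affine open of the base has a universal ideal, locally finitely generated. -/
theorem exists_local (x : S) : ∃ (A : Type u) (_ : CommRing A) (a : Spec (CommRingCat.of A) ⟶ S),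
    IsOpenImmersion a ∧ x ∈ Set.range a ∧ ∃ I : Ideal A, HasIdeal f i a I ∧ (LocallyOfFinitePresentation i → I.FG) := by
  haveI : Surjective f := inferInstance
  obtain ⟨y, rfl⟩ := f.surjective x
  obtain ⟨W, hW, hxW, -⟩ := exists_isAffineOpen_mem_and_subset (show f y ∈ (⊤ : S.Opens) from trivial)
  obtain ⟨U, hU, hyU, hUW⟩ := exists_isAffineOpen_mem_and_subset (show y ∈ f ⁻¹ᵁ W from hxW)
  obtain ⟨g, hg, hyg⟩ := hW.exists_basicOpen_le (V := ⟨f '' (U : Set X), f.isOpenMap _ U.2⟩)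
    ⟨f y, ⟨y, hyU, rfl⟩⟩ hxW
  let W' := S.basicOpen g
  have hW' : IsAffineOpen W' := hW.basicOpen g
  have hU' : IsAffineOpen (U ⊓ f ⁻¹ᵁ W') := by
    have h1 := hU.basicOpen (f.appLE W U hUW g)
    rwa [Scheme.basicOpen_appLE] at h1
  refine ⟨Γ(S, W'), inferInstance, hW'.fromSpec, inferInstance, hW'.range_fromSpec.ge hyg, ?_⟩
  let U₀ := pullback.snd hW'.fromSpec f ⁻¹ᵁ (U ⊓ f ⁻¹ᵁ W')
  refine exists_hasIdeal_of_chart f i hW'.fromSpec U₀ ?_ ?_
  · refine hU'.preimage_of_isOpenImmersion _ ?_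
    intro z hz
    show z ∈ Set.range (pullback.snd hW'.fromSpec f)
    rw [Scheme.Pullback.range_snd, hW'.range_fromSpec]
    exact hz.2
  · intro z
    obtain ⟨u, hu, huz⟩ := hg (hW'.range_fromSpec.le ⟨z, rfl⟩)
    obtain ⟨w, hw1, hw2⟩ := Scheme.Pullback.exists_preimage_pullback (f := hW'.fromSpec) (g := f) z u huz.symm
    refine ⟨w, ?_, hw1⟩
    show pullback.snd hW'.fromSpec f w ∈ U ⊓ f ⁻¹ᵁ W'
    rw [hw2]
    refine ⟨hu, ?_⟩
    show f u ∈ W'
    rw [huz]
    exact hW'.range_fromSpec.le ⟨z, rfl⟩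

theorem hasIdeals : HasIdeals f i := by
  intro W
  choose A _ a ha hx I hI _ using exists_local f i
  have : ∀ w : PrimeSpectrum Γ(S, W.1), ∃ g : Γ(S, W.1), w ∈ PrimeSpectrum.basicOpen g ∧
      ∃ s : S, W.2.fromSpec '' (PrimeSpectrum.basicOpen g : Set (PrimeSpectrum Γ(S, W.1))) ⊆ Set.range (a s) := fun w => by
    haveI := ha (W.2.fromSpec w)
    obtain ⟨_, ⟨_, ⟨g, rfl⟩, rfl⟩, hwg, hsub⟩ := PrimeSpectrum.isBasis_basic_opens.exists_subset_of_mem_open
      (show w ∈ W.2.fromSpec ⁻¹' Set.range (a (W.2.fromSpec w)) from hx _)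
      ((a (W.2.fromSpec w)).isOpenEmbedding.isOpen_range.preimage W.2.fromSpec.continuous)
    exact ⟨g, hwg, _, Set.image_subset_iff.mpr hsub⟩
  choose g hg s hs using this
  refine hasIdeal_of_span _ (Set.range g) ?_ ?_
  · rw [← PrimeSpectrum.zeroLocus_empty_iff_eq_top, PrimeSpectrum.zeroLocus_span]
    ext w
    simp only [Set.mem_empty_iff_false, iff_false]
    exact fun hw => hg w (hw ⟨w, rfl⟩)
  · rintro ⟨_, w, rfl⟩
    haveI := ha (s w)
    let c := Spec.map (CommRingCat.ofHom (algebraMap Γ(S, W.1) (Localization.Away (g w)))) ≫ W.2.fromSpec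
    have hc : Set.range c ⊆ Set.range (a (s w)) := by
      rintro _ ⟨z, rfl⟩
      exact hs w ⟨_, (PrimeSpectrum.localization_away_comap_range (Localization.Away (g w)) (g w)).le ⟨z, rfl⟩, rfl⟩
    obtain ⟨ψ, hψ⟩ := Spec.map_surjective (IsOpenImmersion.lift (a (s w)) c hc)
    refine ⟨(I (s w)).map ψ.hom, ?_⟩
    have h1 := HasIdeal.map (π := f) (i := i) (h := hI (s w)) ψ.hom
    rw [CommRingCat.ofHom_hom, hψ, IsOpenImmersion.lift_fac] at h1
    exact h1

/-- Weil restriction of a closed subscheme along a flat geometrically integral morphism of finite presentation. -/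
theorem exists_weilRestriction_closed : ∃ (Z : Scheme.{u}) (z : Z ⟶ S), IsClosedImmersion z ∧
    (∀ (T : Scheme.{u}) (g : T ⟶ S), (∃ w : T ⟶ Z, w ≫ z = g) ↔ Good f i g) ∧
    (LocallyOfFinitePresentation i → LocallyOfFinitePresentation z) := by
  obtain ⟨Z, z, hz, hzu⟩ := exists_weilRestriction (hasIdeals f i)
  refine ⟨Z, z, hz, hzu, fun hfp => locallyOfFinitePresentation_of_hasIdeal hzu fun x => ?_⟩
  obtain ⟨A, _, a, ha, hx, I, hI, hfg⟩ := exists_local f i x
  exact ⟨A, inferInstance, a, ha, hx, I, hI, hfg hfp⟩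

end Groth.Agent.Deform.WeilGeomInt
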