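import Groth.Agent.SchTop.Closed
import Groth.Agent.GeomField.Irreducible
import Groth.Agent.GrpSchLib.GeomIrr
import Groth.Agent.H23.RigidGamma
import Groth.Agent.S7603
import Groth.Agent.SmoothReg.Scheme
import Groth.Prelude.Def_Red

/-!
# Smooth morphisms with connected geometric fibres are geometrically integral
-/

set_option autoImplicit false
set_option linter.style.haveILetI false
set_option backward.isDefEq.respectTransparency.types false

universe u

open CategoryTheory CategoryTheory.Limits AlgebraicGeometry

namespace Groth.Agent.Deform.WeilGeomInt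

/-- A connected locally noetherian scheme whose local rings are domains is irreducible. -/
theorem irreducibleSpace_of_isDomain_stalk {X : Scheme.{u}} [IsLocallyNoetherian X] [ConnectedSpace X]
    (h : ∀ x : X, IsDomain (X.presheaf.stalk x)) : IrreducibleSpace X := by
  obtain ⟨y⟩ := (inferInstance : Nonempty X)
  obtain ⟨η, -, hmax, hcomp⟩ := GeomField.exists_maximal_component y
  have hclop : IsClopen (closure ({η} : Set X)) := by
    refine ⟨isClosed_closure, isOpen_iff_mem_nhds.mpr fun z hz => ?_⟩
    obtain ⟨V, hV, hzV, -⟩ := exists_isAffineOpen_mem_and_subset (show z ∈ (⊤ : X.Opens) from trivial)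
    haveI : IsAffine V.toScheme := hV
    haveI : IsLocallyNoetherian V.toScheme := isLocallyNoetherian_of_isOpenImmersion V.ι
    haveI : IsNoetherian V.toScheme := {}
    have hdom : ∀ w : V.toScheme, IsDomain (V.toScheme.presheaf.stalk w) := fun w =>
      haveI := h (V.ι w)
      (asIso (V.ι.stalkMap w)).commRingCatIsoToRingEquiv.symm.toMulEquiv.isDomain _
    obtain ⟨ξ, hξz, -, hξc⟩ := GeomField.exists_maximal_component (Y := V.toScheme) ⟨z, hzV⟩
    have hopen := SchTop.isOpen_component_of_finite (X := V.toScheme)
      TopologicalSpace.NoetherianSpace.finite_irreducibleComponents hdom hξc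
    haveI := h z
    obtain ⟨η₀, hη₀⟩ := SchTop.exists_least_generization z
    have hξX : V.ι ξ ⤳ z := hξz.map V.ι.continuous
    have hηz : η ⤳ z := specializes_iff_mem_closure.mpr hz
    have hη₀η : η₀ = η := hmax _ (hη₀ _ hηz)
    have hηξ : η ⤳ V.ι ξ := hη₀η ▸ hη₀ _ hξX
    refine Filter.mem_of_superset ((V.ι.isOpenEmbedding.isOpenMap _ hopen).mem_nhds
      ⟨⟨z, hzV⟩, specializes_iff_mem_closure.mp hξz, rfl⟩) ?_
    rintro _ ⟨w, hw, rfl⟩
    exact specializes_iff_mem_closure.mp (hηξ.trans ((specializes_iff_mem_closure.mpr hw).map V.ι.continuous))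
  rw [irreducibleSpace_def, Set.top_eq_univ, ← hclop.eq_univ ⟨η, subset_closure rfl⟩]
  exact isIrreducible_singleton.closure

/-- A connected smooth scheme over a field is irreducible. -/
theorem irreducibleSpace_of_smooth {k : Type u} [Field k] {X : Scheme.{u}} (f : X ⟶ Spec (CommRingCat.of k))
    [Smooth f] [ConnectedSpace X] : IrreducibleSpace X := by
  haveI : IsLocallyNoetherian X := LocallyOfFiniteType.isLocallyNoetherian f
  refine irreducibleSpace_of_isDomain_stalk fun y => ?_
  haveI := SmoothReg.isRegularLocalRing_stalk_of_mem_smoothLocus f (x := y)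
    (by rw [f.smoothLocus_eq_top]; trivial)
  exact RegLoc6.isDomain_of_isRegularLocalRing _

/-- A smooth morphism with connected geometric fibres is geometrically integral. -/
theorem geometricallyIntegral_of_smooth {X S : Scheme.{u}} (f : X ⟶ S) [Smooth f]
    (hconn : ∀ s : S, ConnectedSpace ↥(pullback f (Red.geomPt s))) : GeometricallyIntegral f := by
  haveI := H23.RigidGamma.geometricallyReduced_of_smooth f
  haveI : GeometricallyIrreducible f := by
    rw [GeometricallyIrreducible.iff_geometricallyIrreducible_fiber]
    intro s
    refine GrpSchLib.geometricallyIrreducible_of_algClosure _ ?_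
    haveI := hconn s
    haveI : Smooth (pullback.snd f (Red.geomPt s)) := MorphismProperty.pullback_snd _ _ inferInstance
    haveI : IrreducibleSpace ↥(pullback f (Red.geomPt s)) := irreducibleSpace_of_smooth (pullback.snd f (Red.geomPt s))
    exact (pullbackLeftPullbackSndIso f (S.fromSpecResidueField s)
      (Spec.map (CommRingCat.ofHom (algebraMap (S.residueField s) (AlgebraicClosure (S.residueField s)))))).hom.homeomorph.irreducibleSpace_iff.mpr
      ‹IrreducibleSpace ↥(pullback f (Red.geomPt s))›
  exact GeometricallyIntegral.of_geometricallyReduced_of_geometricallyIrreducible _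

end Groth.Agent.Deform.WeilGeomInt
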