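import Groth.Agent.Deform.WeilGeomInt.Chart
import Groth.Agent.Deform.WeilGeomInt.Smooth

/-!
# Closed loci along smooth schemes with geometrically connected fibres, in the relative language (VI_B 6.11)
-/

set_option autoImplicit false
set_option linter.style.haveILetI false
set_option backward.isDefEq.respectTransparency.types false

universe u

open CategoryTheory CategoryTheory.Limits MonoidalCategory CartesianMonoidalCategory AlgebraicGeometry

namespace Groth.Agent.Deform.WeilGeomInt

open GrpSchLib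

variable {S : Scheme.{u}}

/-- The points `g` of `G` such that `φ (g, a)` lies in `W'` for all points `a` of `Y` form a closed subscheme. -/
theorem exists_locus_forall (G Y W W' : Over S) [Smooth Y.hom]
    (hYc : ∀ s : S, ConnectedSpace ↥(Red.geomFibre s Y).left) (φ : G ⊗ Y ⟶ W) (y' : W' ⟶ W)
    [IsClosedImmersion y'.left] :
    ∃ (C : Over S) (c : C ⟶ G), IsClosedImmersion c.left ∧
      (LocallyOfFinitePresentation y'.left → LocallyOfFinitePresentation c.left) ∧
      ∀ (X : Over S) (g : X ⟶ G), (∃ z : X ⟶ C, z ≫ c = g) ↔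
        ∀ (X' : Over S) (x : X' ⟶ X) (a : X' ⟶ Y), ∃ a' : X' ⟶ W', lift (x ≫ g) a ≫ φ = a' ≫ y' := by
  haveI : GeometricallyIntegral Y.hom := geometricallyIntegral_of_smooth Y.hom hYc
  let f := (fst G Y).left
  haveI : Flat f := MorphismProperty.pullback_fst (P := @Flat) G.hom Y.hom inferInstance
  haveI : LocallyOfFinitePresentation f :=
    MorphismProperty.pullback_fst (P := @LocallyOfFinitePresentation) G.hom Y.hom inferInstance
  haveI : GeometricallyIntegral f :=
    MorphismProperty.pullback_fst (P := @GeometricallyIntegral) G.hom Y.hom inferInstance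
  let e : pullback φ y' ⟶ G ⊗ Y := pullback.fst φ y'
  have hsq : IsPullback e.left (pullback.snd φ y').left φ.left y'.left :=
    (IsPullback.of_hasPullback φ y').map (Over.forget S)
  haveI : IsClosedImmersion e.left := MorphismProperty.of_isPullback hsq.flip ‹_›
  obtain ⟨Z, z, hz, hzu, hzf⟩ := exists_weilRestriction_closed f e.left
  refine ⟨Over.mk (z ≫ G.hom), Over.homMk z rfl, hz, fun h => hzf (MorphismProperty.of_isPullback hsq.flip h),
    fun X g => ?_⟩
  have hgY : IsPullback (fst X Y) (g ▷ Y) g (fst G Y) := by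
    refine ⟨⟨(whiskerRight_fst g Y).symm⟩, ⟨PullbackCone.IsLimit.mk _ (fun s => lift s.fst (s.snd ≫ snd G Y))
      (fun s => lift_fst _ _) (fun s => ?_) (fun s m h1 h2 => ?_)⟩⟩
    · apply CartesianMonoidalCategory.hom_ext <;> simp [s.condition]
    · apply CartesianMonoidalCategory.hom_ext <;> simp [← h1, ← h2]
  have hP := hgY.map (Over.forget S)
  have h0 : (∃ w : X ⟶ Over.mk (z ≫ G.hom), w ≫ Over.homMk z rfl = g) ↔ Good f e.left g.left := by
    refine Iff.trans ⟨fun ⟨w, hw⟩ => ⟨w.left, congrArg CommaMorphism.left hw⟩, fun ⟨w, hw⟩ => ?_⟩ (hzu _ _)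
    exact ⟨Over.homMk w (by show w ≫ z ≫ G.hom = _; rw [← Category.assoc, hw, Over.w g]), Over.OverMorphism.ext hw⟩
  rw [h0]
  constructor
  · rintro ⟨l, hl⟩ X' x a
    let q : X' ⟶ X ⊗ Y := lift x a
    have hq : q ≫ g ▷ Y = lift (x ≫ g) a := by apply CartesianMonoidalCategory.hom_ext <;> simp [q]
    let n : (X ⊗ Y).left ⟶ (pullback φ y').left := hP.isoPullback.hom ≫ l
    have hn : n ≫ e.left = (g ▷ Y).left := by
      show (hP.isoPullback.hom ≫ l) ≫ e.left = _
      erw [Category.assoc, hl]
      exact hP.isoPullback_hom_snd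
    let n' : X ⊗ Y ⟶ pullback φ y' := Over.homMk n (by rw [← Over.w e, reassoc_of% hn, Over.w])
    let m : X' ⟶ pullback φ y' := q ≫ n'
    have hm : m ≫ e = lift (x ≫ g) a := by
      rw [← hq, show m = q ≫ n' from rfl, Category.assoc]
      congr 1
      exact Over.OverMorphism.ext hn
    exact ⟨m ≫ pullback.snd φ y', by rw [← hm, Category.assoc, pullback.condition]; simp [m]⟩
  · intro hall
    obtain ⟨a', ha'⟩ := hall (X ⊗ Y) (fst X Y) (snd X Y)
    have hq : lift (fst X Y ≫ g) (snd X Y) = g ▷ Y := by apply CartesianMonoidalCategory.hom_ext <;> simp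
    rw [hq] at ha'
    refine ⟨hP.isoPullback.inv ≫ (pullback.lift (g ▷ Y) a' ha' : X ⊗ Y ⟶ pullback φ y').left, ?_⟩
    erw [Category.assoc, ← Over.comp_left, pullback.lift_fst]
    exact hP.isoPullback_inv_snd

end Groth.Agent.Deform.WeilGeomInt
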