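import Groth.Agent.S1219
import Groth.Agent.S1223
import Groth.Agent.H4RG.FiberTools
import Mathlib.AlgebraicGeometry.Geometrically.Integral

/-!
# Geometrically integral charts: projectivity and universally regular elements
-/

set_option autoImplicit false
set_option linter.style.haveILetI false
set_option backward.isDefEq.respectTransparency.types false

universe u

open CategoryTheory CategoryTheory.Limits AlgebraicGeometry
open scoped TensorProduct
attribute [local instance] Algebra.TensorProduct.rightAlgebra

namespace Groth.Agent.Deform.WeilGeomInt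

/-- An open subscheme surjecting onto the base is geometrically integral. -/
theorem geometricallyIntegral_comp {U X S : Scheme.{u}} (j : U ⟶ X) [IsOpenImmersion j] (g : X ⟶ S)
    [GeometricallyIntegral g] [Surjective (j ≫ g)] : GeometricallyIntegral (j ≫ g) := by
  haveI : GeometricallyReduced (j ≫ g) := by
    rw [GeometricallyReduced.eq_geometrically]
    intro K _ y Z fst snd h
    have h' := IsPullback.of_hasPullback g y
    let l : Z ⟶ pullback g y := pullback.lift (fst ≫ j) snd (by rw [Category.assoc]; exact h.w)
    have hl : IsPullback l fst (pullback.fst g y) j := by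
      refine IsPullback.of_right (h₁₂ := pullback.snd g y) (h₂₂ := g) (v₁₃ := y) ?_ (pullback.lift_fst _ _ _) h'.flip
      rw [pullback.lift_snd]
      exact h.flip
    haveI : IsOpenImmersion l := MorphismProperty.of_isPullback hl.flip ‹IsOpenImmersion j›
    haveI : GeometricallyReduced g := inferInstance
    haveI : IsReduced (pullback g y) :=
      pullback_of_geometrically GeometricallyReduced.geometrically_isReduced K y
    exact isReduced_of_isOpenImmersion l
  exact GeometricallyIntegral.of_geometricallyReduced_of_geometricallyIrreducible _

variable {A B : Type u} [CommRing A] [CommRing B] [Algebra A B]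

/-- A flat chart of finite presentation with geometrically integral fibres is projective. -/
theorem projective_of_geomIntegral [Flat (Spec.map (CommRingCat.ofHom (algebraMap A B)))]
    [LocallyOfFinitePresentation (Spec.map (CommRingCat.ofHom (algebraMap A B)))]
    (hgi : FlatCA.GeomIntegralFibres A B) : Module.Projective A B := by
  haveI : Module.Flat A B :=
    RingHom.flat_algebraMap_iff.mp ((HasRingHomProperty.Spec_iff (P := @Flat)).mp ‹Flat (Spec.map (CommRingCat.ofHom (algebraMap A B)))›)
  haveI : Algebra.FinitePresentation A B :=
    RingHom.finitePresentation_algebraMap.mp ((HasRingHomProperty.Spec_iff (P := @LocallyOfFinitePresentation)).mp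
      ‹LocallyOfFinitePresentation (Spec.map (CommRingCat.ofHom (algebraMap A B)))›)
  exact (S1219.result (A := A) (B := B) B).2 fun p _ A' B' N' _ _ _ _ _ _ _ _ _ _ _ _ _ _ g t' t _ _ P _ _ himp =>
    S1223.result hgi p A' B' N' g t' t P himp

/-- An element which is nonzero on every fibre is regular after any base change. -/
theorem eq_zero_of_smul [Module.Projective A B] (hgi : FlatCA.GeomIntegralFibres A B) (t : B)
    (ht : ∀ p : Ideal A, p.IsPrime → ∃ q : Ideal B, q.IsPrime ∧ q.comap (algebraMap A B) = p ∧ t ∉ q)
    (M : Type u) [AddCommGroup M] [Module A M] (w : B ⊗[A] M) (hw : t • w = 0) : w = 0 := by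
  by_contra hne
  obtain ⟨p, hp, hle⟩ := Ideal.exists_le_maximal (Submodule.annihilator (Submodule.span A {w}))
    (fun h => hne (by
      have := (Submodule.mem_annihilator_span_singleton w (1 : A)).mp (h ▸ Submodule.mem_top)
      rwa [one_smul] at this))
  haveI := hp.isPrime
  haveI := S1223.isDomain_tensor hgi p.ResidueField
  obtain ⟨q, hq, hqp, htq⟩ := ht p hp.isPrime
  haveI := hq
  have hinj : ∀ z : B ⊗[A] p.ResidueField, t • z = 0 → z = 0 := fun z hz => by
    have h1 : (t ⊗ₜ[A] (1 : p.ResidueField)) * z = 0 := by
      rw [← hz, Algebra.smul_def]; rfl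
    refine (mul_eq_zero.mp h1).resolve_left fun h0 => htq ?_
    let π : B ⊗[A] p.ResidueField →ₐ[A] q.ResidueField :=
      Algebra.TensorProduct.lift (IsScalarTower.toAlgHom A B q.ResidueField)
        (Ideal.ResidueField.mapₐ p q (Algebra.ofId A B) hqp.symm) (fun _ _ => Commute.all _ _)
    have h2 := congrArg π h0
    rw [Algebra.TensorProduct.lift_tmul, map_one, mul_one, map_zero] at h2
    exact Ideal.algebraMap_residueField_eq_zero.mp h2
  obtain ⟨v, hv, hvw⟩ := H4RG.eq_zero_of_projective (R := A) (S := B) B (H4RG.residueField_frac p) t hinj M w hw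
  exact hv (Ideal.algebraMap_residueField_eq_zero.mpr (hle ((Submodule.mem_annihilator_span_singleton w v).mpr hvw)))

end Groth.Agent.Deform.WeilGeomInt
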